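import Cfsg.Agent.CosetEnum.Lower

/-! Generated coset enumeration certificate: the collapsing fusion choice. -/

set_option autoImplicit false
set_option maxRecDepth 100000

namespace CfsgLib.M12Type.EnumBad

open CfsgLib.CosetEnum

noncomputable def epFLeaf (c : ℕ) : ℕ :=
  0x50000000000ff0000000000c40000300003bf0000300003870000e00007bf0000e00007830000d0000b3f0000d0000b000000e0000aff0000e0000ac2000090000c3f000090000c010000700000c70000300008ff0000700008c300003000053f00003000050400000000000700000000067f0000000006420000000005040001900002ff0000000002c60000b000093f0001900009010001b00002ff0002600002c00001b000077f0001b0000740000240000c01000230000c020002e0000c030002b0000b80000210000b820002b0000b000002b0000b020001e0000ac0000160000986000260000a030001d0000a010002400009830002400009800001b00009050001400009040001400008c30001400008400002000008420001700008000001400007870000e00007860000e00007410000b00006c00001900006c20001800006400001800006420000b00006000000b00005c60000700005860000500005070000300005060000300003820000900003840000e00002420000d00003810000d00003830000d00003800000500003410000300002c70000000002c60000000002410000700002400000700001c20000500001c30000300001400000300001420000300000c50000000000c400000000000200000000000000000000003f00000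

/-- table entries -/
noncomputable def epF (i : ℕ) : ℕ :=
  ((epFLeaf (i >>> 9)) >>> (48 * (i % 512))) % 281474976710656

noncomputable def nodeFLeaf (c : ℕ) : ℕ :=
  0x0

/-- table entries -/
noncomputable def nodeF (i : ℕ) : ℕ :=
  ((nodeFLeaf (i >>> 10)) >>> (20 * (i % 1024))) % 1048576

noncomputable def TFLeaf (c : ℕ) : ℕ :=
  0x0

/-- table entries -/
noncomputable def TF (i : ℕ) : ℕ :=
  ((TFLeaf (i >>> 10)) >>> (20 * (i % 1024))) % 1048576

noncomputable def tfFLeaf (c : ℕ) : ℕ :=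
  0x7c00007d0000a00000a1000005000004000003000002

/-- table entries -/
noncomputable def tfF (i : ℕ) : ℕ :=
  ((tfFLeaf (i >>> 10)) >>> (24 * (i % 1024))) % 16777216

noncomputable def parFLeaf (c : ℕ) : ℕ :=
  0x0

/-- table entries -/
noncomputable def parF (i : ℕ) : ℕ :=
  ((parFLeaf (i >>> 10)) >>> (32 * (i % 1024))) % 4294967296

/-- the words: relators, then generators of the subgroup -/
def words : List (List ℕ) := [[2, 2, 2], [0, 2, 1, 2, 0, 2, 1, 2], [0, 3, 0, 3, 0, 3, 0, 3], [0, 0, 2, 0, 0, 2, 0, 0, 2], [4, 4], [4, 0, 3, 4, 3, 0, 0, 2], [4, 0, 0, 2, 0, 4, 0, 0, 2, 0], [4, 0, 0, 0, 2, 0, 2, 4, 3, 1, 3, 1, 1, 1], [4, 0, 0, 4, 0, 0, 4, 0, 0, 3, 1, 3, 1, 1, 1], [6, 6], [6, 0, 0, 0, 2, 0, 2, 6, 3, 1, 3, 1, 1, 1], [6, 0, 0, 0, 3, 0, 3, 6, 2, 1, 2, 1, 1, 1], [6, 4, 3, 1, 3, 1, 6, 0, 2, 0, 2, 5], [6, 1, 3, 0, 3, 6, 1, 3, 0, 3, 6, 1, 3, 0, 3], [3, 0, 0, 0, 3, 0, 3, 6, 2, 1, 1, 7, 2, 1, 2, 1], [3, 3, 3], [3, 0, 3, 1, 3, 0, 3, 1], [2, 1, 2,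 1, 2, 1, 2, 1], [3, 1, 1, 3, 1, 1, 3, 1, 1], [5, 5], [3, 1, 1, 2, 5, 2, 1, 5], [1, 3, 1, 1, 5, 1, 3, 1, 1, 5], [0, 0, 0, 2, 0, 2, 5, 3, 1, 3, 1, 1, 1, 5], [0, 0, 0, 2, 0, 2, 1, 1, 5, 1, 1, 5, 1, 1, 5], [7, 7], [0, 0, 0, 2, 0, 2, 7, 3, 1, 3, 1, 1, 1, 7], [0, 0, 0, 3, 0, 3, 7, 2, 1, 2, 1, 1, 1, 7], [4, 3, 1, 3, 1, 7, 0, 2, 0, 2, 5, 7], [2, 1, 2, 0, 7, 2, 1, 2, 0, 7, 2, 1, 2, 0, 7], [0, 3, 0, 3, 6, 0, 0, 3, 7, 2, 1, 2, 1, 1, 1, 2], [0], [2]]

/-- the certificate -/
noncomputable def cert : CertData where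
  L := 8
  n := 1
  iv := fun x => x ^^^ 1
  words := words
  nr := 30
  ep := epF
  node := nodeF
  T := TF
  tf := tfF

/-- parents in the table -/
noncomputable def par : ℕ → ℕ := parF

end CfsgLib.M12Type.EnumBad
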