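import Cfsg.Agent.M12Type.EnumBad.Data

/-! Generated: checks of facts. -/

set_option autoImplicit false
set_option maxRecDepth 100000

namespace CfsgLib.M12Type.EnumBad

open CfsgLib.CosetEnum

theorem facts0 : checkFacts epF (fun x => x ^^^ 1) words 30 0 [0x1, 0x1f00003, 0x2000003, 0x0, 0x700001000030001400004, 0x0, 0x4000020000200005000090000b000060000100000000060000a, 0x0, 0xa0000f00002000070000100005, 0x0, 0x80000300004000070000f000130000e0000100003000150000a, 0x0, 0x17000010000b0001900004, 0x0, 0x0, 0x1a0000d0001100013000140000e0000d0001d000000000d000130000b, 0xa0000d0000a0001b0001f0001f0001c0000200005000020000a, 0x30000300003000050000300005000090000f00015000210001c0000c0000600004000000000800010, 0x300003000030000500003000050000200002000090001b000210001c0000c0000600003000000000900011, 0x25000200001a000080000300003000070000d0001d00012000100000c0001b00021000050000e0001800011, 0x0, 0x2900001000140001900004, 0x0, 0x0, 0x0, 0x0, 0x4000030000300003000040000300004000170003300030000160000500002000050000200006000000001e00012, 0x0, 0x300003000030000400003000040001900033000340003700034000300001600003000000000c00010, 0x0, 0x0, 0x3d000010001e0001900004, 0x0, 0x0, 0xf000130001400013000220001a0000f0002f0004300040000280000b0000c0000b0000c00006000030001e00012,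 0x0, 0x0, 0x4900001000240001400004, 0x0, 0x8000040000200004000020001900031000370004d000480002800002000030000d0000e, 0x0, 0x3a0003300034000370004d0004e00051000000001d000110000a, 0x5000020000500003000190003300034000370004d0004e00051000520003a0001600005000000000e00011, 0x0, 0x0, 0xa0000d0001d000200001f000200001f0003d00059000560002c0001100015000270001c00006000050001e00012, 0x0, 0xd0001d000200001f000200001f0003f000590005a0005d00044000400002800003000030000c00010, 0x0, 0x5c0006100002000300000100005, 0x41000450005f0006300046000280000f0001500022000210001c0000c0002b00009000140000b00010, 0x4a00041000450005f000630006400046000490004f0004c00036000300003b00000000240001700010, 0x670003a00033000390004d0004e000670004d0004e0000200024000130000c, 0x3b000680000000003, 0x6a0004d0000000003, 0x67000680000000003, 0x6e000380000000003, 0x6c000540006d0000000004, 0x72000180000000003, 0x4b000700000000003, 0x32000740000000003, 0x78000050000000003, 0x17000740000000003, 0x760007a0000000003, 0x7e000070000000003, 0x46000800000000003, 0x820000f0000000003, 0x29000800000000003, 0x64000840000000003, 0x88000150000000003, 0x610008a0000000003, 0x8c000270000000003, 0x5a0008e0000000003, 0x90000200000000003, 0x59000920000000003,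 0x940001f0000000003, 0x3d000960000000003, 0xb0000c0000b0001d000990001e000210001e0001a000870000b0000c0000b0001d000990000f0000e0000e00012, 0x9b000240009a0000000004, 0x9c000080000000003, 0x70009e0000000003] = true := by
  decide +kernel

theorem factsUpTo81 (h : FactsChecked cert.ep cert.iv cert.words cert.nr 0) :
    FactsChecked cert.ep cert.iv cert.words cert.nr 81 :=
  (FactsChecked.app _ 81 h facts0 rfl)

end CfsgLib.M12Type.EnumBad
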